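import Cfsg.Agent.H508.KB.Defs

/-!
# S4822, B4 and B5: arithmetic (`ar4`, `ar5`)
-/

set_option autoImplicit false

open Cfsg Cfsg.Agent.H508.KB

namespace Cfsg.Agent.H1.KB

theorem choose_step (κ t : ℕ) (ht : 1 ≤ t) : (κ + t - 1).choose t + 1 ≤ (κ + 1 + t - 1).choose t := by
  obtain ⟨s, rfl⟩ : ∃ s, t = s + 1 := ⟨t - 1, by omega⟩
  have h1 : κ + 1 + (s + 1) - 1 = (κ + s) + 1 := by omega
  have h2 : κ + (s + 1) - 1 = κ + s := by omega
  rw [h1, Nat.choose_succ_succ', h2]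
  have h3 : 0 < (κ + s).choose s := Nat.choose_pos (by omega)
  omega

theorem choose_ge (κ t : ℕ) (hκ : 3 ≤ κ) (ht : 1 ≤ t) :
    (t + 1) * (t + 2) + 2 * κ ≤ 2 * (κ + t - 1).choose t + 6 := by
  induction κ, hκ using Nat.le_induction with
  | base =>
    have h1 : 3 + t - 1 = t + 2 := by omega
    rw [h1, Nat.choose_symm_add]
    have h2 := Nat.choose_two_right (t + 2)
    have h3 : (t + 2) * (t + 2 - 1) = (t + 1) * (t + 2) := by
      rw [show t + 2 - 1 = t + 1 by omega, mul_comm]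
    have h4 : 2 ∣ (t + 1) * (t + 2) := (Nat.even_mul_succ_self (t + 1)).two_dvd
    rw [h3] at h2
    rw [h2]
    omega
  | succ κ hκ ih =>
    have := choose_step κ t ht
    omega

theorem choose_ge_two (κ t : ℕ) (hκ : 1 ≤ κ) (ht : 2 ≤ t) : κ * (κ + 1) ≤ 2 * (κ + t - 1).choose t := by
  obtain ⟨k, rfl⟩ : ∃ k, κ = k + 1 := ⟨κ - 1, by omega⟩
  obtain ⟨s, rfl⟩ : ∃ s, t = s + 2 := ⟨t - 2, by omega⟩
  have h1 : (k + 1 + (s + 2) - 1).choose (s + 2) = (k + (s + 2)).choose k := by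
    rw [show k + 1 + (s + 2) - 1 = k + (s + 2) by omega, Nat.choose_symm_add]
  have h2 : (k + 2).choose k ≤ (k + (s + 2)).choose k := Nat.choose_le_choose k (by omega)
  have h3 : (k + 2).choose k = (k + 2).choose 2 := Nat.choose_symm_add
  have h4 := Nat.choose_two_right (k + 2)
  have h5 : (k + 2) * (k + 2 - 1) = (k + 1) * (k + 1 + 1) := by
    rw [show k + 2 - 1 = k + 1 by omega, mul_comm]
  have h6 : 2 ∣ (k + 1) * (k + 1 + 1) := (Nat.even_mul_succ_self (k + 1)).two_dvd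
  rw [h5] at h4
  rw [h1]
  omega

variable {p : ℕ} [Fact p.Prime]

/-- B4 -/
theorem ar4 {K f κ e x : ℕ} (h : p - 1 ≤ e * x) (hK : e + x ≤ K) (hf : 2 * f ≤ e) (hκ : x + 2 ≤ κ) :
    GoodN p K f κ := by
  intro t g n ht hg hn
  refine le_trans (Nat.mul_le_mul_left 4 h) ?_
  rcases Nat.lt_or_ge t 2 with h2 | h2
  · obtain rfl : t = 1 := by omega
    rw [show κ + 1 - 1 = κ by omega, Nat.choose_one_right] at hn
    have h3 : e + x ≤ n := by omega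
    nlinarith [sq_nonneg ((e : ℤ) - x), h3, Nat.pow_le_pow_left h3 2]
  · have h3 := choose_ge_two κ t (by omega) h2
    have h4 : (x + 2) * (x + 3) ≤ κ * (κ + 1) := Nat.mul_le_mul hκ (by omega)
    obtain ⟨y, rfl⟩ : ∃ y, κ = x + 2 + y := ⟨κ - (x + 2), by omega⟩
    have h5 : e + x ^ 2 + 5 * x + 2 ≤ 2 * n := by
      have : 2 * (K + (x + 2 + y + t - 1).choose t + g) ≤ 2 * (n + f + (x + 2 + y)) := by omega
      nlinarith [Nat.zero_le (x * y), Nat.zero_le (y * y)]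
    have h6 : (e + (x ^ 2 + 5 * x + 2)) ^ 2 ≤ (2 * n) ^ 2 := Nat.pow_le_pow_left (by omega) 2
    have h7 : 4 * (e * (x ^ 2 + 5 * x + 2)) ≤ (e + (x ^ 2 + 5 * x + 2)) ^ 2 := by
      zify
      nlinarith [sq_nonneg ((e : ℤ) - ((x : ℤ) ^ 2 + 5 * x + 2))]
    have h8 : 4 * (e * x) ≤ e * (x ^ 2 + 5 * x + 2) := by nlinarith [Nat.zero_le (e * x ^ 2), Nat.zero_le (e * x)]
    nlinarith

/-- B5 (own characteristic) -/
theorem ar5 {K f κ : ℕ} (h11 : 11 ≤ p) (h : p + 1 ≤ K + f) (hK : f + κ ≤ K + 1) (hf : 1 ≤ f) (hκ : 3 ≤ κ) :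
    GoodN p K f κ := by
  intro t g n ht hg hn
  have _ := h11
  have _ := hf
  have h3 := choose_ge κ t hκ ht
  -- `2 t n ≥ (p - 1) + t (t² + 3 t)`
  obtain ⟨D, hD⟩ : ∃ D, K = f + D := ⟨K - f, by omega⟩
  subst hD
  obtain ⟨q, rfl⟩ : ∃ q, p = q + 1 := ⟨p - 1, by omega⟩
  have hD2 : 2 ≤ D := by omega
  have h5 : D + D + (t + 1) * (t + 2) + 2 * g ≤ 2 * n + 6 := by omega
  have h6 : q + t * (t ^ 2 + 3 * t) ≤ 2 * t * n := by
    have e1 : t * (D + D + (t + 1) * (t + 2) + 2 * g) ≤ t * (2 * n + 6) := Nat.mul_le_mul_left t h5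
    obtain ⟨D', rfl⟩ : ∃ D', D = D' + 2 := ⟨D - 2, by omega⟩
    have e2 : q + 2 ≤ 2 * f + (D' + 2) := by omega
    have e3 : D' ≤ t * (2 * D') := by nlinarith [Nat.zero_le D']
    nlinarith
  have h7 : (q + t * (t ^ 2 + 3 * t)) ^ 2 ≤ (2 * t * n) ^ 2 := Nat.pow_le_pow_left h6 2
  have h8 : 4 * (q * (t * (t ^ 2 + 3 * t))) ≤ (q + t * (t ^ 2 + 3 * t)) ^ 2 := by
    zify
    nlinarith [sq_nonneg ((q : ℤ) - (t : ℤ) * ((t : ℤ) ^ 2 + 3 * t))]
  have h9 : 4 * (t ^ 2 * (4 * q)) ≤ 4 * (q * (t * (t ^ 2 + 3 * t))) := by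
    have : t ^ 2 * 4 ≤ t * (t ^ 2 + 3 * t) := by nlinarith [Nat.mul_le_mul_left (t ^ 2) ht]
    nlinarith [Nat.mul_le_mul_left q this]
  have h10 : 4 * t ^ 2 * (4 * q) ≤ 4 * t ^ 2 * n ^ 2 := by nlinarith
  rw [show q + 1 - 1 = q by omega]
  exact Nat.le_of_mul_le_mul_left h10 (by positivity)

end Cfsg.Agent.H1.KB
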